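import Groth.Agent.H70.FC.Core
import Groth.Agent.H70.FC.Depth
import Groth.Prelude.Def_EGA4b
import Groth.Prelude.Def_CAlg
import Mathlib.RingTheory.Support
import Mathlib.RingTheory.KrullDimension.Module
import Mathlib.RingTheory.Localization.AtPrime.Basic
import Mathlib.RingTheory.Localization.Finiteness
import Mathlib.RingTheory.Flat.EquationalCriterion
import Mathlib.RingTheory.Ideal.Height
import Mathlib.RingTheory.Nakayama

/-!
# Deriving the elementwise hypotheses of `FC.Core` from Serre's conditions and codimension-one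
flatness.
-/

set_option autoImplicit false
universe u

namespace Groth.Agent.H70.FC

open IsLocalRing

section Loc

variable {B : Type u} [CommRing B]

lemma exists_mul_mem_of_algebraMap_mem (q : Ideal B) [q.IsPrime] (I : Ideal B) (x : B)
    (hx : algebraMap B (Localization.AtPrime q) x ∈
      I.map (algebraMap B (Localization.AtPrime q))) :
    ∃ s, s ∉ q ∧ s * x ∈ I := by
  rw [IsLocalization.mem_map_algebraMap_iff q.primeCompl] at hx
  obtain ⟨⟨i, s⟩, h⟩ := hx
  rw [← map_mul, IsLocalization.eq_iff_exists q.primeCompl] at h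
  obtain ⟨t, ht⟩ := h
  refine ⟨t * s, ?_, ?_⟩
  · exact q.primeCompl.mul_mem t.2 s.2
  · have : (t : B) * s * x = t * (x * s) := by ring
    rw [this, ht]
    exact I.mul_mem_left _ i.2

end Loc

section Flat

variable {A M : Type*} [CommRing A] [CommRing M] [Algebra A M]

/-- For a flat `A`-algebra `M`: `(J M : e) ⊆ (J : e) M`. -/
lemma mem_map_of_flat [Module.Flat A M] (J K : Ideal A) (e : A)
    (hK : ∀ a, a * e ∈ J → a ∈ K) (y : M)
    (hy : algebraMap A M e * y ∈ J.map (algebraMap A M)) : y ∈ K.map (algebraMap A M) := by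
  classical
  obtain ⟨n, f, g, hfg⟩ := Submodule.mem_span_set'.1 hy
  have hg : ∀ i, ∃ j ∈ J, algebraMap A M j = (g i : M) := fun i => (g i).2
  choose j hjJ hj using hg
  let c : Option (Fin n) → A := fun o => o.elim e (fun i => - j i)
  let x : Option (Fin n) → M := fun o => o.elim y f
  have hrel : ∑ o, c o • x o = 0 := by
    rw [Fintype.sum_option]
    simp only [c, x, Option.elim_none, Option.elim_some, neg_smul, Finset.sum_neg_distrib]
    rw [Algebra.smul_def, ← hfg, add_neg_eq_zero]
    refine Finset.sum_congr rfl fun i _ => ?_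
    rw [smul_eq_mul, ← hj, Algebra.smul_def (j i), mul_comm]
  obtain ⟨k, a, z, hx, ha⟩ := Module.Flat.isTrivialRelation_of_sum_smul_eq_zero hrel
  have hy' : y = ∑ l, a none l • z l := hx none
  rw [hy']
  refine Ideal.sum_mem _ fun l _ => ?_
  rw [Algebra.smul_def]
  refine Ideal.mul_mem_right _ _ (Ideal.mem_map_of_mem _ (hK _ ?_))
  have h1 := ha l
  rw [Fintype.sum_option] at h1
  simp only [c, Option.elim_none, Option.elim_some, neg_mul, Finset.sum_neg_distrib] at h1
  rw [add_neg_eq_zero] at h1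
  rw [mul_comm, h1]
  exact Ideal.sum_mem _ fun i _ => Ideal.mul_mem_right _ _ (hjJ i)

end Flat

section Codim

variable {A : Type u} [CommRing A] {B : Type u} [CommRing B] [Algebra A B]

lemma colon_of_flat (q : Ideal B) [q.IsPrime] [Module.Flat A (Localization.AtPrime q)]
    (J K : Ideal A) (e : A) (hK : ∀ a, a * e ∈ J → a ∈ K) (x : B)
    (hx : algebraMap A B e * x ∈ J.map (algebraMap A B)) :
    ∃ s, s ∉ q ∧ s * x ∈ K.map (algebraMap A B) := by
  have h1 := Ideal.mem_map_of_mem (algebraMap B (Localization.AtPrime q)) hx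
  rw [Ideal.map_map, ← IsScalarTower.algebraMap_eq, map_mul,
    ← IsScalarTower.algebraMap_apply] at h1
  have h2 := mem_map_of_flat J K e hK _ h1
  rw [IsScalarTower.algebraMap_eq A B (Localization.AtPrime q), ← Ideal.map_map] at h2
  exact exists_mul_mem_of_algebraMap_mem q _ x h2

lemma red_of_isReduced [IsLocalRing A] (q : Ideal B) [q.IsPrime]
    (hred : IsReduced (EGA4.FibLocRing A B q)) (x : B) (hx : x ∈ nilradical B) :
    ∃ s, s ∉ q ∧ s * x ∈ (maximalIdeal A).map (algebraMap A B) := by
  have h1 : IsNilpotent (algebraMap B (Localization.AtPrime q) x) :=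
    (mem_nilradical.1 hx).map _
  have h2 : IsNilpotent (Ideal.Quotient.mk
      ((q.comap (algebraMap A B)).map (algebraMap A (Localization.AtPrime q)))
      (algebraMap B (Localization.AtPrime q) x)) := h1.map _
  have h3 := hred.eq_zero _ h2
  rw [Ideal.Quotient.eq_zero_iff_mem] at h3
  have hle : q.comap (algebraMap A B) ≤ maximalIdeal A :=
    le_maximalIdeal (Ideal.IsPrime.ne_top inferInstance)
  have h4 := Ideal.map_mono (f := algebraMap A (Localization.AtPrime q)) hle h3
  rw [IsScalarTower.algebraMap_eq A B (Localization.AtPrime q), ← Ideal.map_map] at h4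
  exact exists_mul_mem_of_algebraMap_mem q _ x h4

end Codim

section Sk

open LocCoh
open scoped Pointwise

variable {R : Type u} [CommRing R]

theorem mk_eq_zero_iff' {M : Type*} [AddCommGroup M] [Module R M] {S : Submonoid R} (m : M)
    (t : S) : LocalizedModule.mk m t = 0 ↔ ∃ s ∈ S, s • m = 0 := by
  rw [← LocalizedModule.zero_mk (1 : S), LocalizedModule.mk_eq]
  constructor
  · rintro ⟨u, hu⟩
    refine ⟨u, u.2, ?_⟩
    simp only [one_smul, smul_zero] at hu
    exact hu
  · rintro ⟨s, hs, h⟩
    refine ⟨⟨s, hs⟩, ?_⟩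
    simp only [one_smul, smul_zero]
    change s • m = 0
    exact h

theorem support_localization_eq_univ (p : Ideal R) [p.IsPrime] :
    Module.support (Localization.AtPrime p) (LocalizedModule p.primeCompl R) = Set.univ := by
  rw [Set.eq_univ_iff_forall]
  intro q'
  rw [Module.mem_support_iff']
  refine ⟨LocalizedModule.mk 1 1, ?_⟩
  intro y hy hzero
  obtain ⟨r, s, rfl⟩ := IsLocalization.exists_mk'_eq p.primeCompl y
  rw [IsLocalization.mk'_mem_iff] at hy
  rw [← Localization.mk_eq_mk', LocalizedModule.mk_smul_mk, mk_eq_zero_iff'] at hzero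
  obtain ⟨t, ht, htr⟩ := hzero
  rw [smul_eq_mul, smul_eq_mul, mul_one] at htr
  apply hy
  have hu : IsUnit (algebraMap R (Localization.AtPrime p) t) :=
    IsLocalization.map_units (Localization.AtPrime p) (⟨t, ht⟩ : p.primeCompl)
  have h0 : algebraMap R (Localization.AtPrime p) t * algebraMap R (Localization.AtPrime p) r
      = 0 := by
    rw [← map_mul, htr, map_zero]
  rw [hu.mul_right_eq_zero.1 h0]
  exact zero_mem _

theorem supportDim_localization (p : Ideal R) [p.IsPrime] :
    Module.supportDim (Localization.AtPrime p) (LocalizedModule p.primeCompl R) =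
      ((p.height : ℕ∞) : WithBot ℕ∞) := by
  unfold Module.supportDim
  rw [support_localization_eq_univ p,
    ← IsLocalization.AtPrime.ringKrullDim_eq_height p (Localization.AtPrime p)]
  exact Order.krullDim_eq_of_orderIso OrderIso.Set.univ

lemma depth_ge_of_hasSk (k : ℕ) (h : HasSk k R R) (p : Ideal R) [p.IsPrime]
    (hp : (k : ℕ∞) ≤ p.height) :
    (k : ℕ∞) ≤ depth (Localization.AtPrime p) (LocalizedModule p.primeCompl R) := by
  have h1 := h p
  rw [supportDim_localization p] at h1
  have hk : (k : WithBot ℕ∞) = ((k : ℕ∞) : WithBot ℕ∞) := rfl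
  rw [hk, ← WithBot.coe_min, WithBot.coe_le_coe, min_eq_left hp] at h1
  exact h1

lemma nontrivial_localizedModule_self (p : Ideal R) [p.IsPrime] :
    Nontrivial (LocalizedModule p.primeCompl R) := by
  refine ⟨⟨LocalizedModule.mk 1 1, 0, ?_⟩⟩
  intro h0
  rw [mk_eq_zero_iff'] at h0
  obtain ⟨s, hs, hs1⟩ := h0
  rw [smul_eq_mul, mul_one] at hs1
  exact hs (hs1 ▸ zero_mem p)

lemma maximalIdeal_smul_top_ne_top {S : Type u} [CommRing S] [IsLocalRing S] {N : Type*}
    [AddCommGroup N] [Module S N] [Module.Finite S N] [Nontrivial N] :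
    IsLocalRing.maximalIdeal S • (⊤ : Submodule S N) ≠ ⊤ := by
  intro h
  have hbot : (⊤ : Submodule S N) = ⊥ :=
    Submodule.eq_bot_of_le_smul_of_le_jacobson_bot (IsLocalRing.maximalIdeal S) ⊤
      Module.Finite.fg_top h.ge (IsLocalRing.maximalIdeal_le_jacobson _)
  exact top_ne_bot hbot

end Sk

section AssBot

open LocCoh

variable (A : Type u) [CommRing A] {B : Type u} [CommRing B] [Algebra A B]

theorem ass_bot_of_hasSk_one [IsNoetherianRing B] (hS1 : HasSk 1 B B) :
    Ass A {q : Ideal B | q.height ≤ 1} ⊥ := by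
  intro w hw
  rw [Ideal.map_bot, Ideal.mem_bot] at hw
  obtain ⟨P, hP, hle⟩ := exists_le_isAssociatedPrime_of_isNoetherianRing B w hw
  rw [isAssociatedPrime_iff] at hP
  obtain ⟨hPp, y, hPy⟩ := hP
  have hPmem : ∀ r, r ∈ P ↔ r * y = 0 := by
    intro r
    rw [hPy, Submodule.mem_colon_singleton, Submodule.mem_bot, smul_eq_mul]
  refine ⟨P, hPp, ?_, fun r hr => hle ?_⟩
  · by_contra hht
    have h1 : (1 : ℕ∞) ≤ P.height := le_of_lt (not_le.1 hht)
    have hd := depth_ge_of_hasSk 1 hS1 P (by simpa using h1)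
    haveI := nontrivial_localizedModule_self P
    obtain ⟨a, ha, hreg⟩ := D.exists_regular_of_one_le_idealDepth _
      (LocalizedModule P.primeCompl B) maximalIdeal_smul_top_ne_top
      (by rw [Nat.cast_one] at hd; exact hd)
    obtain ⟨r, s, rfl⟩ := IsLocalization.exists_mk'_eq P.primeCompl a
    rw [IsLocalization.AtPrime.mk'_mem_maximal_iff (Localization.AtPrime P) P] at ha
    have h2 : IsLocalization.mk' (Localization.AtPrime P) r s •
        (LocalizedModule.mk y 1 : LocalizedModule P.primeCompl B) = 0 := by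
      rw [← Localization.mk_eq_mk', LocalizedModule.mk_smul_mk, smul_eq_mul, (hPmem r).1 ha,
        LocalizedModule.zero_mk]
    have h3 := hreg.right_eq_zero_of_smul h2
    rw [mk_eq_zero_iff'] at h3
    obtain ⟨t, ht, hty⟩ := h3
    exact ht ((hPmem t).2 hty)
  · rw [Ideal.map_bot, Ideal.mem_bot] at hr
    rw [Submodule.mem_colon_singleton, Submodule.mem_bot, smul_eq_mul]
    exact hr

end AssBot

section Reg

open LocCoh
open scoped Pointwise

variable {B : Type u} [CommRing B]

/-- Heights can only go up along the quotient by the nilradical. -/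
lemma height_le_height_map_mk_nilradical (p : Ideal B) [hp : p.IsPrime] :
    p.height ≤ (p.map (Ideal.Quotient.mk (nilradical B))).height := by
  have hπ : Function.Surjective (Ideal.Quotient.mk (nilradical B)) :=
    Ideal.Quotient.mk_surjective
  have hker : ∀ q : Ideal B, q.IsPrime → RingHom.ker (Ideal.Quotient.mk (nilradical B)) ≤ q :=
    fun q hq => by rw [Ideal.mk_ker]; exact nilradical_le_prime q
  let f : PrimeSpectrum B → PrimeSpectrum (B ⧸ nilradical B) := fun q =>
    ⟨q.asIdeal.map (Ideal.Quotient.mk (nilradical B)),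
      Ideal.map_isPrime_of_surjective hπ (hker q.asIdeal q.2)⟩
  have hf : StrictMono f := by
    intro q q' hlt
    rw [← PrimeSpectrum.asIdeal_lt_asIdeal] at hlt ⊢
    refine lt_of_le_of_ne (Ideal.map_mono hlt.le) (fun heq => hlt.ne ?_)
    have := congrArg (Ideal.comap (Ideal.Quotient.mk (nilradical B))) heq
    rwa [Ideal.comap_map_of_surjective _ hπ, Ideal.comap_map_of_surjective _ hπ,
      ← RingHom.ker_eq_comap_bot, sup_eq_left.2 (hker _ q.2), sup_eq_left.2 (hker _ q'.2)] at this
  have := Order.height_le_height_apply_of_strictMono f hf ⟨p, hp⟩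
  rwa [← PrimeSpectrum.height_eq_orderHeight, ← PrimeSpectrum.height_eq_orderHeight] at this

theorem reg_of_hasSk_two
    (hS2 : HasSk 2 (B ⧸ nilradical B) (B ⧸ nilradical B))
    (p : Ideal B) (hp : p.IsPrime) (hht : ¬ p.height ≤ 1) :
    ∃ a ∈ p, ∃ b ∈ p,
      (∀ x : B, a * x ∈ nilradical B → ∃ s, s ∉ p ∧ s * x ∈ nilradical B) ∧
      (∀ x : B, b * x ∈ nilradical B ⊔ Ideal.span {a} →
        ∃ s, s ∉ p ∧ s * x ∈ nilradical B ⊔ Ideal.span {a}) := by
  haveI := hp
  have hπ : Function.Surjective (Ideal.Quotient.mk (nilradical B)) :=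
    Ideal.Quotient.mk_surjective
  have hNp : nilradical B ≤ p := nilradical_le_prime p
  set pbar := p.map (Ideal.Quotient.mk (nilradical B)) with hpbar_def
  haveI hpbar : pbar.IsPrime :=
    Ideal.map_isPrime_of_surjective hπ (by rw [Ideal.mk_ker]; exact hNp)
  have hmem : ∀ x, Ideal.Quotient.mk (nilradical B) x ∈ pbar ↔ x ∈ p := by
    intro x
    constructor
    · intro h
      have : x ∈ Ideal.comap (Ideal.Quotient.mk (nilradical B)) pbar := h
      rwa [hpbar_def, Ideal.comap_map_of_surjective _ hπ, ← RingHom.ker_eq_comap_bot,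
        Ideal.mk_ker, sup_eq_left.2 hNp] at this
    · exact Ideal.mem_map_of_mem _
  have h2 : (2 : ℕ∞) ≤ pbar.height := by
    have h1 : (1 : ℕ∞) < p.height := not_le.1 hht
    have := Order.add_one_le_of_lt h1
    rw [one_add_one_eq_two] at this
    exact this.trans (height_le_height_map_mk_nilradical p)
  have hd := depth_ge_of_hasSk 2 hS2 pbar (by simpa using h2)
  haveI := nontrivial_localizedModule_self pbar
  obtain ⟨r₁, hr₁, r₂, hr₂, hreg1, hreg2⟩ := D.exists_regular_of_two_le_idealDepth _
    (LocalizedModule pbar.primeCompl (B ⧸ nilradical B)) maximalIdeal_smul_top_ne_top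
    (by rw [Nat.cast_ofNat] at hd; exact hd)
  obtain ⟨a', s₁, rfl⟩ := IsLocalization.exists_mk'_eq pbar.primeCompl r₁
  obtain ⟨b', s₂, rfl⟩ := IsLocalization.exists_mk'_eq pbar.primeCompl r₂
  rw [IsLocalization.AtPrime.mk'_mem_maximal_iff (Localization.AtPrime pbar) pbar] at hr₁ hr₂
  obtain ⟨a, rfl⟩ := hπ a'
  obtain ⟨b, rfl⟩ := hπ b'
  refine ⟨a, (hmem a).1 hr₁, b, (hmem b).1 hr₂, ?_, ?_⟩
  · intro x hx
    have h0 : Ideal.Quotient.mk (nilradical B) a * Ideal.Quotient.mk (nilradical B) x = 0 := by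
      rw [← map_mul]; exact Ideal.Quotient.eq_zero_iff_mem.2 hx
    have h3 : IsLocalization.mk' (Localization.AtPrime pbar)
        (Ideal.Quotient.mk (nilradical B) a) s₁ •
        (LocalizedModule.mk (Ideal.Quotient.mk (nilradical B) x) 1 :
          LocalizedModule pbar.primeCompl (B ⧸ nilradical B)) = 0 := by
      rw [← Localization.mk_eq_mk', LocalizedModule.mk_smul_mk, smul_eq_mul, h0,
        LocalizedModule.zero_mk]
    have h4 := hreg1.right_eq_zero_of_smul h3
    rw [mk_eq_zero_iff'] at h4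
    obtain ⟨t', ht', htx⟩ := h4
    obtain ⟨t, rfl⟩ := hπ t'
    refine ⟨t, fun h => ht' ((hmem t).2 h), ?_⟩
    rw [smul_eq_mul, ← map_mul] at htx
    exact Ideal.Quotient.eq_zero_iff_mem.1 htx
  · intro x hx
    obtain ⟨n, hn, y, hy, hny⟩ := Submodule.mem_sup.1 hx
    obtain ⟨c, rfl⟩ := Ideal.mem_span_singleton'.1 hy
    have h0 : Ideal.Quotient.mk (nilradical B) b * Ideal.Quotient.mk (nilradical B) x =
        Ideal.Quotient.mk (nilradical B) c * Ideal.Quotient.mk (nilradical B) a := by
      rw [← map_mul, ← map_mul, ← hny, map_add, Ideal.Quotient.eq_zero_iff_mem.2 hn, zero_add]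
    have h3 : IsLocalization.mk' (Localization.AtPrime pbar)
        (Ideal.Quotient.mk (nilradical B) b) s₂ •
        (Submodule.Quotient.mk (LocalizedModule.mk (Ideal.Quotient.mk (nilradical B) x) 1 :
          LocalizedModule pbar.primeCompl (B ⧸ nilradical B)) :
          QuotSMulTop (IsLocalization.mk' (Localization.AtPrime pbar)
            (Ideal.Quotient.mk (nilradical B) a) s₁)
            (LocalizedModule pbar.primeCompl (B ⧸ nilradical B))) = 0 := by
      rw [← Submodule.Quotient.mk_smul, Submodule.Quotient.mk_eq_zero, D.mem_smul_top_iff]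
      refine ⟨LocalizedModule.mk ((s₁ : B ⧸ nilradical B) *
        Ideal.Quotient.mk (nilradical B) c) s₂, ?_⟩
      rw [← Localization.mk_eq_mk', LocalizedModule.mk_smul_mk,
        LocalizedModule.mk_smul_mk, LocalizedModule.mk_eq]
      refine ⟨1, ?_⟩
      simp only [one_smul, smul_eq_mul, mul_one, Submonoid.smul_def, Submonoid.coe_mul]
      rw [h0]
      ring
    have h4 := hreg2.right_eq_zero_of_smul h3
    rw [Submodule.Quotient.mk_eq_zero, D.mem_smul_top_iff] at h4
    obtain ⟨l, hl⟩ := h4
    induction l using LocalizedModule.induction_on with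
    | h c' t =>
      obtain ⟨c', rfl⟩ := hπ c'
      rw [← Localization.mk_eq_mk', LocalizedModule.mk_smul_mk, LocalizedModule.mk_eq] at hl
      obtain ⟨u, hu⟩ := hl
      obtain ⟨u₀, hu₀⟩ := hπ (u : B ⧸ nilradical B)
      obtain ⟨σ, hσ⟩ := hπ (s₁ : B ⧸ nilradical B)
      obtain ⟨τ, hτ⟩ := hπ (t : B ⧸ nilradical B)
      have hu₀p : u₀ ∉ p := fun h => u.2 (by rw [← hu₀]; exact (hmem u₀).2 h)
      have hσp : σ ∉ p := fun h => s₁.2 (by rw [← hσ]; exact (hmem σ).2 h)
      have hτp : τ ∉ p := fun h => t.2 (by rw [← hτ]; exact (hmem τ).2 h)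
      refine ⟨u₀ * σ * τ, fun h => ?_, ?_⟩
      · rcases hp.mem_or_mem h with h | h
        · rcases hp.mem_or_mem h with h | h
          · exact hu₀p h
          · exact hσp h
        · exact hτp h
      · have key : Ideal.Quotient.mk (nilradical B) (u₀ * σ * τ * x - u₀ * c' * a) = 0 := by
          simp only [map_sub, map_mul, hu₀, hσ, hτ]
          simp only [one_smul, smul_eq_mul, Submonoid.smul_def, Submonoid.coe_mul] at hu
          linear_combination -hu
        rw [Ideal.Quotient.eq_zero_iff_mem] at key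
        have : u₀ * σ * τ * x = (u₀ * σ * τ * x - u₀ * c' * a) + (u₀ * c') * a := by ring
        rw [this]
        exact add_mem (Ideal.mem_sup_left key)
          (Ideal.mem_sup_right (Ideal.mem_span_singleton'.2 ⟨u₀ * c', rfl⟩))

end Reg

section Final

open LocCoh

variable {A : Type u} [CommRing A] [IsLocalRing A] (B : Type u) [CommRing B] [Algebra A B]

theorem data_of_hyps
    (hS2 : HasSk 2 (B ⧸ nilradical B) (B ⧸ nilradical B))
    (hcodim : ∀ (q : Ideal B) [q.IsPrime], q.height ≤ 1 →
      Module.Flat A (Localization.AtPrime q) ∧ IsReduced (EGA4.FibLocRing A B q)) :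
    Data A {q : Ideal B | q.height ≤ 1} where
  gen p q _ _ hle hq := (Ideal.height_mono hle).trans hq
  reg p hp hpU := reg_of_hasSk_two hS2 p hp hpU
  colon q hq hqU J K e hK x hx := by
    haveI := hq
    haveI := (hcodim q hqU).1
    exact colon_of_flat q J K e hK x hx
  red q hq hqU x hx := by
    haveI := hq
    exact red_of_isReduced q (hcodim q hqU).2 x hx

/-- Flatness and reducedness of the closed fibre from `(S₁)`, `(S₂)` of the reduction and
codimension-one data. -/
theorem flat_and_reduced [IsArtinianRing A] [IsNoetherianRing B]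
    (hS1 : HasSk 1 B B) (hS2 : HasSk 2 (B ⧸ nilradical B) (B ⧸ nilradical B))
    (hcodim : ∀ (q : Ideal B) [q.IsPrime], q.height ≤ 1 →
      Module.Flat A (Localization.AtPrime q) ∧ IsReduced (EGA4.FibLocRing A B q)) :
    IsReduced (B ⧸ (maximalIdeal A).map (algebraMap A B)) ∧ Module.Flat A B := by
  obtain ⟨hN, hfl⟩ := core (data_of_hyps B hS2 hcodim) (ass_bot_of_hasSk_one A hS1)
  refine ⟨?_, hfl⟩
  rw [← Ideal.isRadical_iff_quotient_reduced]
  obtain ⟨n, hnil⟩ : ∃ n, maximalIdeal A ^ n = ⊥ := by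
    have := IsArtinianRing.isNilpotent_jacobson_bot (R := A)
    rw [IsLocalRing.jacobson_eq_maximalIdeal ⊥ bot_ne_top] at this
    exact this
  intro x hx
  obtain ⟨k, hk⟩ := hx
  apply hN
  have h1 : (x ^ k) ^ n ∈ ((maximalIdeal A).map (algebraMap A B)) ^ n := Ideal.pow_mem_pow hk n
  rw [← Ideal.map_pow, hnil, Ideal.map_bot, Ideal.mem_bot, ← pow_mul] at h1
  exact mem_nilradical.2 ⟨k * n, h1⟩

end Final

end Groth.Agent.H70.FC
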