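import Groth.Agent.H70.FC.Tor1
import Mathlib.RingTheory.Ideal.AssociatedPrime.Basic
import Mathlib.RingTheory.Artinian.Ring
import Mathlib.RingTheory.HopkinsLevitzki
import Mathlib.RingTheory.TensorProduct.Quotient
import Mathlib.RingTheory.Nilpotent.Lemmas
import Mathlib.RingTheory.Ideal.Colon
import Mathlib.Tactic.LinearCombination
import Mathlib.Tactic.Ring

/-!
# Flatness and reducedness of fibres from codimension-one data (core induction)

`A` is an Artinian local ring, `B` a Noetherian `A`-algebra, `𝒰` a set of primes of `B` stable under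
generization.  Elementwise hypotheses (`Data`) express: `B_red` has depth `≥ 2` at primes outside
`𝒰`, and `B` is flat over `A` with reduced fibre at the primes of `𝒰`.  `Ass 𝒰 J` says that
`B / J B` has no element whose annihilator avoids every prime of `𝒰`.  The main theorem shows, by
descending induction on `J`, that `nilradical B ≤ 𝔪 B` and that `B / J B` is flat over `A / J`.
-/

set_option autoImplicit false
universe u

namespace Groth.Agent.H70.FC

open IsLocalRing

section Core

variable {A : Type u} [CommRing A] [IsLocalRing A] {B : Type u} [CommRing B] [Algebra A B]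

/-- The elementwise hypotheses which do not change along the induction. -/
structure Data (A : Type u) [CommRing A] [IsLocalRing A] {B : Type u} [CommRing B] [Algebra A B]
    (𝒰 : Set (Ideal B)) : Prop where
  gen : ∀ p q : Ideal B, p.IsPrime → q.IsPrime → p ≤ q → q ∈ 𝒰 → p ∈ 𝒰
  reg : ∀ p : Ideal B, p.IsPrime → p ∉ 𝒰 → ∃ a ∈ p, ∃ b ∈ p,
      (∀ x : B, a * x ∈ nilradical B → ∃ s, s ∉ p ∧ s * x ∈ nilradical B) ∧
      (∀ x : B, b * x ∈ nilradical B ⊔ Ideal.span {a} →
        ∃ s, s ∉ p ∧ s * x ∈ nilradical B ⊔ Ideal.span {a})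
  colon : ∀ q : Ideal B, q.IsPrime → q ∈ 𝒰 → ∀ (J K : Ideal A) (e : A),
      (∀ a, a * e ∈ J → a ∈ K) → ∀ x : B,
      algebraMap A B e * x ∈ J.map (algebraMap A B) → ∃ s, s ∉ q ∧ s * x ∈ K.map (algebraMap A B)
  red : ∀ q : Ideal B, q.IsPrime → q ∈ 𝒰 → ∀ x ∈ nilradical B,
      ∃ s, s ∉ q ∧ s * x ∈ (maximalIdeal A).map (algebraMap A B)

/-- `B / J B` has no nonzero element whose annihilator avoids all primes in `𝒰`. -/
def Ass (A : Type u) [CommRing A] {B : Type u} [CommRing B] [Algebra A B]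
    (𝒰 : Set (Ideal B)) (J : Ideal A) : Prop :=
  ∀ w : B, w ∉ J.map (algebraMap A B) →
    ∃ q : Ideal B, q.IsPrime ∧ q ∈ 𝒰 ∧ ∀ r, r * w ∈ J.map (algebraMap A B) → r ∈ q

variable {𝒰 : Set (Ideal B)}

lemma eps_mul_mem {J : Ideal A} {ε : A} (hmε : ∀ μ ∈ maximalIdeal A, μ * ε ∈ J) {y : B}
    (hy : y ∈ (maximalIdeal A).map (algebraMap A B)) :
    algebraMap A B ε * y ∈ J.map (algebraMap A B) := by
  have h1 : (Ideal.span {ε} * maximalIdeal A) ≤ J := by
    rw [Ideal.span_singleton_mul_le_iff]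
    intro z hz
    rw [mul_comm]
    exact hmε z hz
  have h2 := Ideal.map_mono (f := algebraMap A B) h1
  rw [Ideal.map_mul] at h2
  apply h2
  exact Ideal.mul_mem_mul (Ideal.mem_map_of_mem _ (Ideal.mem_span_singleton_self ε)) hy

/-- Key Lemma 1: `(J B : ε) = nilradical B` for `ε` in the socle of `A / J`. -/
theorem colon_eq_nilradical (h : Data A 𝒰) {n : ℕ} (hnil : (maximalIdeal A) ^ n = ⊥)
    {J : Ideal A} (hJ : Ass A 𝒰 J) (hJm : J ≤ maximalIdeal A) {ε : A} (hε : ε ∉ J)
    (hmε : ∀ μ ∈ maximalIdeal A, μ * ε ∈ J) (x : B) :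
    algebraMap A B ε * x ∈ J.map (algebraMap A B) ↔ x ∈ nilradical B := by
  constructor
  · intro hx
    have hxn : x ^ n ∈ J.map (algebraMap A B) := by
      by_contra hcon
      obtain ⟨q, hqp, hqU, hq⟩ := hJ _ hcon
      have hK : ∀ a, a * ε ∈ J → a ∈ maximalIdeal A := by
        intro a ha
        by_contra ha'
        have hu : IsUnit a := by
          rwa [mem_maximalIdeal, mem_nonunits_iff, not_not] at ha'
        obtain ⟨u, rfl⟩ := hu
        apply hε
        have := J.mul_mem_left (↑u⁻¹ : A) ha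
        rwa [← mul_assoc, Units.inv_mul, one_mul] at this
      obtain ⟨s, hs, hsx⟩ := h.colon q hqp hqU J (maximalIdeal A) ε hK x hx
      have h1 : (s * x) ^ n ∈ ((maximalIdeal A).map (algebraMap A B)) ^ n :=
        Ideal.pow_mem_pow hsx n
      rw [← Ideal.map_pow, hnil, Ideal.map_bot, Ideal.mem_bot, mul_pow] at h1
      have h3 : s ^ n ∈ q := hq _ (by rw [h1]; exact zero_mem _)
      exact hs (hqp.mem_of_pow_mem n h3)
    have h1 : (x ^ n) ^ n ∈ ((maximalIdeal A).map (algebraMap A B)) ^ n :=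
      Ideal.pow_mem_pow (Ideal.map_mono hJm hxn) n
    rw [← Ideal.map_pow, hnil, Ideal.map_bot, Ideal.mem_bot, ← pow_mul] at h1
    exact mem_nilradical.2 ⟨n * n, h1⟩
  · intro hx
    by_contra hcon
    obtain ⟨q, hqp, hqU, hq⟩ := hJ _ hcon
    obtain ⟨s, hs, hsx⟩ := h.red q hqp hqU x hx
    apply hs
    apply hq
    have := eps_mul_mem hmε hsx
    convert this using 1
    ring

lemma exists_uniform [IsNoetherianRing B] (P : Ideal B) (hP : P.IsPrime) (I : Ideal B) (w : B)
    (h : ∀ r ∈ P, ∃ s, s ∉ P ∧ s * (r * w) ∈ I) :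
    ∃ S, S ∉ P ∧ ∀ r ∈ P, S * (r * w) ∈ I := by
  classical
  obtain ⟨G, hG⟩ := (isNoetherianRing_iff_ideal_fg B).1 inferInstance P
  have key : ∀ G' : Finset B, (∀ g ∈ G', g ∈ P) → ∃ S, S ∉ P ∧ ∀ g ∈ G', S * (g * w) ∈ I := by
    intro G'
    induction G' using Finset.induction_on with
    | empty =>
      exact fun _ => ⟨1, (Ideal.ne_top_iff_one P).1 hP.ne_top, by simp⟩
    | insert g G' hg ih =>
      intro hsub
      obtain ⟨S, hS, hS'⟩ := ih (fun x hx => hsub x (Finset.mem_insert_of_mem hx))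
      obtain ⟨s, hs, hs'⟩ := h g (hsub g (Finset.mem_insert_self g G'))
      refine ⟨S * s, fun hmem => (hP.mem_or_mem hmem).elim hS hs, ?_⟩
      intro g' hg'
      rcases Finset.mem_insert.1 hg' with rfl | hg'
      · have := I.mul_mem_left S hs'
        convert this using 1
        ring
      · have := I.mul_mem_left s (hS' g' hg')
        convert this using 1
        ring
  obtain ⟨S, hS, hS'⟩ := key G (fun g hg => by rw [← hG]; exact Ideal.subset_span hg)
  refine ⟨S, hS, fun r hr => ?_⟩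
  have hr' : r ∈ Ideal.span (G : Set B) := by rw [hG]; exact hr
  clear hr
  induction hr' using Submodule.span_induction with
  | mem x hx => exact hS' x hx
  | zero => simp
  | add x y _ _ hx hy =>
    rw [add_mul, mul_add]
    exact add_mem hx hy
  | smul c x _ hx =>
    rw [smul_eq_mul, mul_assoc, mul_left_comm]
    exact I.mul_mem_left c hx

lemma mem_map_sup_span {J : Ideal A} {ε : A} {y : B} :
    y ∈ (J ⊔ Ideal.span {ε}).map (algebraMap A B) ↔
      ∃ c, y - algebraMap A B ε * c ∈ J.map (algebraMap A B) := by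
  rw [Ideal.map_sup, Ideal.map_span, Set.image_singleton]
  constructor
  · intro hy
    obtain ⟨j, hj, z, hz, rfl⟩ := Submodule.mem_sup.1 hy
    obtain ⟨c, rfl⟩ := Ideal.mem_span_singleton'.1 hz
    refine ⟨c, ?_⟩
    have : j + c * algebraMap A B ε - algebraMap A B ε * c = j := by ring
    rw [this]
    exact hj
  · rintro ⟨c, hc⟩
    have : y = (y - algebraMap A B ε * c) + c * algebraMap A B ε := by ring
    rw [this]
    exact add_mem (Ideal.mem_sup_left hc)
      (Ideal.mem_sup_right (Ideal.mem_span_singleton'.2 ⟨c, rfl⟩))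

/-- The depth argument: an element of `B / J'B` killed by a prime `P ∉ 𝒰` is killed by some
`s ∉ P`. -/
lemma depth_arg [IsNoetherianRing B] (h : Data A 𝒰) {n : ℕ} (hnil : (maximalIdeal A) ^ n = ⊥)
    {J : Ideal A} (hJ : Ass A 𝒰 J) (hJm : J ≤ maximalIdeal A) {ε : A} (hε : ε ∉ J)
    (hmε : ∀ μ ∈ maximalIdeal A, μ * ε ∈ J) (P : Ideal B) (hPp : P.IsPrime) (hPU : P ∉ 𝒰)
    (z : B) (hz : ∀ r ∈ P, r * z ∈ (J ⊔ Ideal.span {ε}).map (algebraMap A B)) :
    ∃ s, s ∉ P ∧ s * z ∈ (J ⊔ Ideal.span {ε}).map (algebraMap A B) := by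
  have K1 := colon_eq_nilradical h hnil hJ hJm hε hmε
  obtain ⟨a, ha, b, hb, hb1, hb2⟩ := h.reg P hPp hPU
  obtain ⟨u, hu⟩ := mem_map_sup_span.1 (hz a ha)
  obtain ⟨v, hv⟩ := mem_map_sup_span.1 (hz b hb)
  set JB := J.map (algebraMap A B) with hJB
  set e := algebraMap A B ε with he
  have h1 : e * (b * u - a * v) ∈ JB := by
    have : e * (b * u - a * v) = a * (b * z - e * v) - b * (a * z - e * u) := by ring
    rw [this]
    exact sub_mem (Ideal.mul_mem_left _ _ hv) (Ideal.mul_mem_left _ _ hu)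
  have h2 : b * u - a * v ∈ nilradical B := (K1 _).1 h1
  have h3 : b * u ∈ nilradical B ⊔ Ideal.span {a} := by
    have : b * u = (b * u - a * v) + v * a := by ring
    rw [this]
    exact add_mem (Ideal.mem_sup_left h2)
      (Ideal.mem_sup_right (Ideal.mem_span_singleton'.2 ⟨v, rfl⟩))
  obtain ⟨s, hs, hsu⟩ := hb2 u h3
  obtain ⟨n', hn', y, hy, hny⟩ := Submodule.mem_sup.1 hsu
  obtain ⟨u', rfl⟩ := Ideal.mem_span_singleton'.1 hy
  have hεn : e * n' ∈ JB := (K1 _).2 hn'
  have haw : a * (s * z - e * u') ∈ JB := by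
    have : a * (s * z - e * u') = s * (a * z - e * u) + e * n' := by
      linear_combination (-e) * hny
    rw [this]
    exact add_mem (Ideal.mul_mem_left _ _ hu) hεn
  have hr : ∀ r ∈ P, ∃ s', s' ∉ P ∧ s' * (r * (s * z - e * u')) ∈ JB := by
    intro r hr
    have hmem : r * (s * z - e * u') ∈ (J ⊔ Ideal.span {ε}).map (algebraMap A B) := by
      obtain ⟨c, hc⟩ := mem_map_sup_span.1 (hz r hr)
      refine mem_map_sup_span.2 ⟨s * c - r * u', ?_⟩
      have : r * (s * z - e * u') - algebraMap A B ε * (s * c - r * u') = s * (r * z - e * c) := by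
        rw [← he]; ring
      rw [this]
      exact Ideal.mul_mem_left _ _ hc
    obtain ⟨t, ht⟩ := mem_map_sup_span.1 hmem
    have h4 : e * (a * t) ∈ JB := by
      have : e * (a * t) = r * (a * (s * z - e * u')) - a * (r * (s * z - e * u') - e * t) := by
        ring
      rw [this]
      exact sub_mem (Ideal.mul_mem_left _ _ haw) (Ideal.mul_mem_left _ _ ht)
    have h5 := (K1 _).1 h4
    obtain ⟨s', hs', hs't⟩ := hb1 t h5
    refine ⟨s', hs', ?_⟩
    have h6 := (K1 _).2 hs't
    have : s' * (r * (s * z - e * u')) = s' * (r * (s * z - e * u') - e * t) + e * (s' * t) := by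
      ring
    rw [this]
    exact add_mem (Ideal.mul_mem_left _ _ ht) h6
  obtain ⟨S, hS, hSw⟩ := exists_uniform P hPp JB _ hr
  have hSw₁ : S * (s * z - e * u') ∈ JB := by
    by_contra hcon
    obtain ⟨q, hqp, hqU, hq⟩ := hJ _ hcon
    apply hPU
    refine h.gen P q hPp hqp (fun r hr' => hq r ?_) hqU
    have := hSw r hr'
    convert this using 1
    ring
  refine ⟨S * s, fun hmem => (hPp.mem_or_mem hmem).elim hS hs, ?_⟩
  refine mem_map_sup_span.2 ⟨S * u', ?_⟩
  convert hSw₁ using 1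
  ring

/-- Key Lemma 2: the `Ass` condition passes from `J` to `J ⊔ (ε)`. -/
theorem ass_sup [IsNoetherianRing B] (h : Data A 𝒰) {n : ℕ} (hnil : (maximalIdeal A) ^ n = ⊥)
    {J : Ideal A} (hJ : Ass A 𝒰 J) (hJm : J ≤ maximalIdeal A) {ε : A} (hε : ε ∉ J)
    (hmε : ∀ μ ∈ maximalIdeal A, μ * ε ∈ J) : Ass A 𝒰 (J ⊔ Ideal.span {ε}) := by
  intro w hw
  set J'B := (J ⊔ Ideal.span {ε}).map (algebraMap A B) with hJ'B
  have hw' : (Ideal.Quotient.mk J'B w) ≠ 0 := by
    rwa [Ne, Ideal.Quotient.eq_zero_iff_mem]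
  obtain ⟨P, hP, hle⟩ :=
    exists_le_isAssociatedPrime_of_isNoetherianRing B (Ideal.Quotient.mk J'B w) hw'
  rw [isAssociatedPrime_iff] at hP
  obtain ⟨hPp, zbar, hPz⟩ := hP
  obtain ⟨z, rfl⟩ := Ideal.Quotient.mk_surjective zbar
  have hcol : ∀ (r y : B), r ∈ (⊥ : Submodule B (B ⧸ J'B)).colon {Ideal.Quotient.mk J'B y} ↔
      r * y ∈ J'B := by
    intro r y
    rw [Submodule.mem_colon_singleton, Submodule.mem_bot, ← Ideal.Quotient.eq_zero_iff_mem,
      map_mul]
    rfl
  refine ⟨P, hPp, ?_, fun r hr => hle ((hcol r w).2 hr)⟩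
  by_contra hPU
  obtain ⟨s, hs, hsz⟩ := depth_arg h hnil hJ hJm hε hmε P hPp hPU z
    (fun r hr => (hcol r z).1 (hPz ▸ hr))
  apply hs
  rw [hPz]
  exact (hcol s z).2 hsz

lemma nil_le_of_ass_max (h : Data A 𝒰) (hJ : Ass A 𝒰 (maximalIdeal A)) :
    nilradical B ≤ (maximalIdeal A).map (algebraMap A B) := by
  intro x hx
  by_contra hcon
  obtain ⟨q, hqp, hqU, hq⟩ := hJ _ hcon
  obtain ⟨s, hs, hsx⟩ := h.red q hqp hqU x hx
  exact hs (hq s hsx)

omit [Algebra A B] in
lemma exists_socle {n : ℕ} (hnil : maximalIdeal A ^ n = ⊥) {J : Ideal A}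
    (hJm : J ≤ maximalIdeal A) (hne : J ≠ maximalIdeal A) :
    ∃ ε ∈ maximalIdeal A, ε ∉ J ∧ ∀ μ ∈ maximalIdeal A, μ * ε ∈ J := by
  classical
  have hex : ∃ k, maximalIdeal A ^ k ≤ J := ⟨n, by rw [hnil]; exact bot_le⟩
  have hkJ : maximalIdeal A ^ (Nat.find hex) ≤ J := Nat.find_spec hex
  have hk0 : Nat.find hex ≠ 0 := by
    intro h0
    rw [h0, pow_zero, Ideal.one_eq_top, top_le_iff] at hkJ
    rw [hkJ, top_le_iff] at hJm
    exact (maximalIdeal.isMaximal A).ne_top hJm
  have hk1 : Nat.find hex ≠ 1 := by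
    intro h1
    rw [h1, pow_one] at hkJ
    exact hne (le_antisymm hJm hkJ)
  obtain ⟨k', hk'⟩ : ∃ k', Nat.find hex = k' + 1 := Nat.exists_eq_succ_of_ne_zero hk0
  have hk'1 : k' ≠ 0 := by omega
  have hnot : ¬ maximalIdeal A ^ k' ≤ J := Nat.find_min hex (by omega)
  obtain ⟨ε, hεk, hεJ⟩ := SetLike.not_le_iff_exists.1 hnot
  refine ⟨ε, Ideal.pow_le_self hk'1 hεk, hεJ, fun μ hμ => hkJ ?_⟩
  rw [hk', pow_succ']
  exact Ideal.mul_mem_mul hμ hεk

end Core

section FlatStep

open TensorProduct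

/-- Flatness step: if `e ∈ A'` has square zero, `B' / e B'` is flat over `A' / e`, and the
annihilator of `e` in `B'` is contained in `K B'` for an ideal `K` of `A'` killing `e`, then `B'`
is flat over `A'`. -/
theorem flat_of_quotient_span {A' B' : Type u} [CommRing A'] [CommRing B'] [Algebra A' B']
    (e : A') (he2 : e * e = 0) (K : Ideal A') (hK : ∀ a ∈ K, a * e = 0)
    (hann : ∀ b : B', algebraMap A' B' e * b = 0 → b ∈ K.map (algebraMap A' B'))
    (hfl : Module.Flat (A' ⧸ Ideal.span {e}) (B' ⧸ (Ideal.span {e}).map (algebraMap A' B'))) :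
    Module.Flat A' B' := by
  set I : Ideal A' := Ideal.span {e} with hI
  have hInil : IsNilpotent I := by
    refine ⟨2, ?_⟩
    rw [hI, Ideal.span_singleton_pow, pow_two, he2, Ideal.zero_eq_bot,
      Ideal.span_singleton_eq_bot]
  haveI : Module.Flat (A' ⧸ I) ((A' ⧸ I) ⊗[A'] B') :=
    Module.Flat.of_linearEquiv
      (Algebra.TensorProduct.quotIdealMapEquivQuotTensor B' I).symm.toLinearEquiv
  refine T1.flat_of_isNilpotent_of_tor1Zero I hInil ((T1.tor1Zero_quotient_iff I).2 ?_)
  have heI : e ∈ I := Ideal.mem_span_singleton_self e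
  -- every element of `I ⊗ B'` is `e ⊗ b`
  have hform : ∀ z : I ⊗[A'] B', ∃ b : B', z = (⟨e, heI⟩ : I) ⊗ₜ[A'] b := by
    intro z
    induction z using TensorProduct.induction_on with
    | zero => exact ⟨0, (TensorProduct.tmul_zero _ _).symm⟩
    | tmul i b =>
      obtain ⟨i, hi⟩ := i
      obtain ⟨c, rfl⟩ := Ideal.mem_span_singleton'.1 hi
      refine ⟨c • b, ?_⟩
      rw [← TensorProduct.smul_tmul]
      rfl
    | add x y hx hy =>
      obtain ⟨b₁, rfl⟩ := hx
      obtain ⟨b₂, rfl⟩ := hy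
      exact ⟨b₁ + b₂, (TensorProduct.tmul_add _ _ _).symm⟩
  -- `e ⊗ b = 0` for `b ∈ K B'`
  have hzero : ∀ b ∈ K.map (algebraMap A' B'), ∀ c : B',
      (⟨e, heI⟩ : I) ⊗ₜ[A'] (c * b) = 0 := by
    intro b hb
    induction hb using Submodule.span_induction with
    | mem x hx =>
      obtain ⟨a, ha, rfl⟩ := hx
      intro c
      have h1 : c * algebraMap A' B' a = a • c := by
        rw [Algebra.smul_def, mul_comm]
      rw [h1, ← TensorProduct.smul_tmul]
      have h2 : a • (⟨e, heI⟩ : I) = 0 := by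
        apply Subtype.ext
        simpa using hK a ha
      rw [h2, TensorProduct.zero_tmul]
    | zero => intro c; rw [mul_zero, TensorProduct.tmul_zero]
    | add x y _ _ hx hy =>
      intro c
      rw [mul_add, TensorProduct.tmul_add, hx, hy, add_zero]
    | smul c' x _ hx =>
      intro c
      rw [smul_eq_mul, ← mul_assoc]
      exact hx (c * c')
  rw [injective_iff_map_eq_zero]
  intro z hz
  obtain ⟨b, rfl⟩ := hform z
  rw [LinearMap.rTensor_tmul] at hz
  have h3 : algebraMap A' B' e * b = 0 := by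
    have := congrArg (TensorProduct.lid A' B') hz
    simpa [Algebra.smul_def] using this
  have := hzero b (hann b h3) 1
  rwa [one_mul] at this

end FlatStep

section Main

variable {A : Type u} [CommRing A] [IsLocalRing A] {B : Type u} [CommRing B] [Algebra A B]
  {𝒰 : Set (Ideal B)}

/-- The conclusion for the ideal `J`. -/
def Concl (A : Type u) [CommRing A] [IsLocalRing A] (B : Type u) [CommRing B] [Algebra A B]
    (J : Ideal A) : Prop :=
  (nilradical B ≤ (maximalIdeal A).map (algebraMap A B)) ∧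
    ∀ (A' B' : Type u) [CommRing A'] [CommRing B'] [Algebra A' B'] (φ : A →+* A') (ψ : B →+* B'),
      Function.Surjective φ → Function.Surjective ψ → RingHom.ker φ = J →
      RingHom.ker ψ = Ideal.map (algebraMap A B) J →
      (∀ a, ψ (algebraMap A B a) = algebraMap A' B' (φ a)) → Module.Flat A' B'

theorem main [IsNoetherianRing A] [IsNoetherianRing B] (h : Data A 𝒰) {n : ℕ}
    (hnil : maximalIdeal A ^ n = ⊥) :
    ∀ J : Ideal A, J ≤ maximalIdeal A → Ass A 𝒰 J → Concl A B J := by
  intro J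
  induction J using IsNoetherian.induction with
  | hgt J ih =>
    intro hJm hJ
    by_cases hne : J = maximalIdeal A
    · subst hne
      refine ⟨nil_le_of_ass_max h hJ, ?_⟩
      intro A' B' _ _ _ φ ψ hφ _ hkφ _ _
      have hF : IsField A' := by
        have h1 : IsField (A ⧸ RingHom.ker φ) := by
          rw [← Ideal.Quotient.maximal_ideal_iff_isField_quotient, hkφ]
          exact maximalIdeal.isMaximal A
        exact (RingHom.quotientKerEquivOfSurjective hφ).symm.toMulEquiv.isField h1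
      letI := hF.toField
      infer_instance
    · obtain ⟨ε, hεm, hεJ, hmε⟩ := exists_socle hnil hJm hne
      have hlt : J < J ⊔ Ideal.span {ε} :=
        lt_of_le_of_ne le_sup_left
          (fun heq => hεJ (heq ▸ Ideal.mem_sup_right (Ideal.mem_span_singleton_self ε)))
      have hJ'm : J ⊔ Ideal.span {ε} ≤ maximalIdeal A :=
        sup_le hJm ((Ideal.span_singleton_le_iff_mem _).2 hεm)
      obtain ⟨hN, hflat⟩ := ih _ hlt hJ'm (ass_sup h hnil hJ hJm hεJ hmε)
      refine ⟨hN, ?_⟩
      intro A' B' _ _ _ φ ψ hφ hψ hkφ hkψ hcomp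
      have hcomp' : ψ.comp (algebraMap A B) = (algebraMap A' B').comp φ := RingHom.ext hcomp
      have hφJ : ∀ a ∈ J, φ a = 0 := fun a ha => by
        rw [← RingHom.mem_ker, hkφ]; exact ha
      refine flat_of_quotient_span (φ ε) ?_ ((maximalIdeal A).map φ) ?_ ?_ ?_
      · rw [← map_mul]
        exact hφJ _ (hmε ε hεm)
      · intro a ha
        obtain ⟨μ, hμ, rfl⟩ := (Ideal.mem_map_iff_of_surjective φ hφ).1 ha
        rw [← map_mul]
        exact hφJ _ (hmε μ hμ)
      · intro b hb
        obtain ⟨b₀, rfl⟩ := hψ b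
        have h1 : algebraMap A B ε * b₀ ∈ Ideal.map (algebraMap A B) J := by
          rw [← hkψ, RingHom.mem_ker, map_mul, hcomp]
          exact hb
        have h2 : b₀ ∈ (maximalIdeal A).map (algebraMap A B) :=
          hN ((colon_eq_nilradical h hnil hJ hJm hεJ hmε b₀).1 h1)
        have h3 := Ideal.mem_map_of_mem ψ h2
        rwa [Ideal.map_map, hcomp', ← Ideal.map_map] at h3
      · refine hflat (A' ⧸ Ideal.span {φ ε})
          (B' ⧸ (Ideal.span {φ ε}).map (algebraMap A' B'))
          ((Ideal.Quotient.mk _).comp φ) ((Ideal.Quotient.mk _).comp ψ)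
          (Ideal.Quotient.mk_surjective.comp hφ) (Ideal.Quotient.mk_surjective.comp hψ) ?_ ?_ ?_
        · rw [← RingHom.comap_ker, Ideal.mk_ker, ← Set.image_singleton, ← Ideal.map_span,
            Ideal.comap_map_of_surjective φ hφ, ← RingHom.ker_eq_comap_bot, hkφ, sup_comm]
        · rw [← RingHom.comap_ker, Ideal.mk_ker, Ideal.map_span, Set.image_singleton, ← hcomp,
            ← Set.image_singleton, ← Ideal.map_span, Ideal.comap_map_of_surjective ψ hψ,
            ← RingHom.ker_eq_comap_bot, hkψ, Ideal.map_sup, Ideal.map_span, Set.image_singleton,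
            sup_comm]
        · intro a
          simp only [RingHom.comp_apply, hcomp]
          rfl

/-- The core theorem: flatness and reducedness of the closed fibre. -/
theorem core [IsArtinianRing A] [IsNoetherianRing B] (h : Data A 𝒰) (hJ : Ass A 𝒰 ⊥) :
    nilradical B ≤ (maximalIdeal A).map (algebraMap A B) ∧ Module.Flat A B := by
  obtain ⟨n, hnil⟩ : ∃ n, maximalIdeal A ^ n = ⊥ := by
    have := IsArtinianRing.isNilpotent_jacobson_bot (R := A)
    rw [IsLocalRing.jacobson_eq_maximalIdeal ⊥ bot_ne_top] at this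
    exact this
  obtain ⟨hN, hfl⟩ := main h hnil ⊥ bot_le hJ
  refine ⟨hN, hfl A B (RingHom.id A) (RingHom.id B) Function.surjective_id
    Function.surjective_id ?_ ?_ (fun a => rfl)⟩
  · exact (RingHom.injective_iff_ker_eq_bot _).1 Function.injective_id
  · rw [Ideal.map_bot]
    exact (RingHom.injective_iff_ker_eq_bot _).1 Function.injective_id

end Main

end Groth.Agent.H70.FC
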